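import Mathlib

/-! Permutations with all orbits of odd length, and products of involutions. -/

set_option autoImplicit false

namespace Cfsg.Agent.Lead.OddGraph

open Equiv

variable {α : Type*} [DecidableEq α]

/-- Every point returns after an odd number of steps. -/
def Good (u : Perm α) : Prop := ∀ a, ∃ k : ℕ, Odd k ∧ (u ^ k) a = a

/-- `x` squares to one, pointwise. -/
def Inv (x : Perm α) : Prop := ∀ a, x (x a) = a

/-- `x` fixes every point outside `s`. -/
def FixOff (s : Finset α) (x : Perm α) : Prop := ∀ a, a ∉ s → x a = a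

lemma Inv.mul_self {x : Perm α} (hx : Inv x) : x * x = 1 := by
  ext a; simp [Perm.mul_apply, hx a]

lemma Inv.of_mul_self {x : Perm α} (hx : x * x = 1) : Inv x := fun a => by
  have := congrArg (fun f : Perm α => f a) hx
  simpa [Perm.mul_apply] using this

lemma good_of_odd_order [Finite α] {u : Perm α} (h : Odd (orderOf u)) : Good u :=
  fun a => ⟨orderOf u, h, by rw [pow_orderOf_eq_one]; rfl⟩

lemma pow_mul_fix {u : Perm α} {a : α} {k : ℕ} (h : (u ^ k) a = a) (m : ℕ) :
    (u ^ (k * m)) a = a := by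
  induction m with
  | zero => simp
  | succ m ih => rw [Nat.mul_succ, pow_add, Perm.mul_apply, h, ih]

lemma Good.odd_orderOf [Fintype α] {u : Perm α} (h : Good u) : Odd (orderOf u) := by
  choose k hk hka using h
  have hodd : Odd (∏ a : α, k a) := by
    apply Finset.prod_induction _ (fun n : ℕ => Odd n) (fun a b ha hb => ha.mul hb) odd_one
    exact fun a _ => hk a
  have h1 : u ^ (∏ a : α, k a) = 1 := by
    ext a
    obtain ⟨m, hm⟩ := Finset.dvd_prod_of_mem k (Finset.mem_univ a)
    rw [hm]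
    simpa using pow_mul_fix (hka a) m
  exact hodd.of_dvd_nat (orderOf_dvd_of_pow_eq_one h1)

lemma good_one : Good (1 : Perm α) := fun _ => ⟨1, odd_one, rfl⟩

lemma good_conj {u : Perm α} (w : Perm α) (h : Good u) : Good (w * u * w⁻¹) := by
  intro a
  obtain ⟨k, hk, hka⟩ := h (w⁻¹ a)
  refine ⟨k, hk, ?_⟩
  rw [conj_pow]
  simp only [Perm.mul_apply]
  rw [hka]
  simp

lemma good_mul_comm {u v : Perm α} (h : Good (u * v)) : Good (v * u) := by
  have := good_conj v h
  rwa [show v * (u * v) * v⁻¹ = v * u from by group] at this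

lemma good_mul {u v : Perm α} (hc : Commute u v) (hu : Good u) (hv : Good v) :
    Good (u * v) := by
  intro a
  obtain ⟨k, hk, hka⟩ := hu a
  obtain ⟨m, hm, hma⟩ := hv a
  refine ⟨k * m, hk.mul hm, ?_⟩
  rw [hc.mul_pow, Perm.mul_apply]
  have : (v ^ (k * m)) a = a := by rw [Nat.mul_comm]; exact pow_mul_fix hma k
  rw [this]
  exact pow_mul_fix hka m

/-- Inserting two fixed points into the orbit of `c` keeps all orbit lengths odd. -/
lemma good_insert {u : Perm α} (hu : Good u) {a b c : α} (hua : u a = a) (hub : u b = b)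
    {T : Perm α} (hTa : T a = b) (hTb : T b = c) (hTc : T c = a)
    (hT : ∀ w, w ≠ a → w ≠ b → w ≠ c → T w = w) (hac : a ≠ c) (hbc : b ≠ c) :
    Good (T * u) := by
  classical
  set v := T * u with hv
  -- the orbit of `c` under `u`
  have hex : ∃ k : ℕ, 0 < k ∧ (u ^ k) c = c := by
    obtain ⟨k, hk, hkc⟩ := hu c
    exact ⟨k, hk.pos, hkc⟩
  set L := Nat.find hex with hL
  obtain ⟨hLpos, hLc⟩ : 0 < L ∧ (u ^ L) c = c := Nat.find_spec hex
  have hLmin : ∀ j, 0 < j → j < L → (u ^ j) c ≠ c := fun j hj hjL h =>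
    Nat.find_min hex hjL ⟨hj, h⟩
  have hLodd : Odd L := by
    obtain ⟨k, hk, hkc⟩ := hu c
    have hmod : k % L = 0 := by
      by_contra hne
      apply hLmin (k % L) (Nat.pos_of_ne_zero hne) (Nat.mod_lt _ hLpos)
      have hd : (u ^ k) c = (u ^ (k % L)) c := by
        conv_lhs => rw [← Nat.mod_add_div k L]
        rw [pow_add, Perm.mul_apply, pow_mul_fix hLc]
      rw [← hd]; exact hkc
    exact hk.of_dvd_nat (Nat.dvd_of_mod_eq_zero hmod)
  have hfix : ∀ j : ℕ, (u ^ j) a = a ∧ (u ^ j) b = b := by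
    intro j
    induction j with
    | zero => simp
    | succ j ih => rw [pow_succ, Perm.mul_apply, Perm.mul_apply, hua, hub]; exact ih
  have hne : ∀ (j : ℕ) (w : α), w ≠ a → w ≠ b → (u ^ j) w ≠ a ∧ (u ^ j) w ≠ b := by
    intro j w h1 h2
    exact ⟨fun h => h1 ((u ^ j).injective (h.trans (hfix j).1.symm)),
      fun h => h2 ((u ^ j).injective (h.trans (hfix j).2.symm))⟩
  have hva : v a = b := by rw [hv, Perm.mul_apply, hua, hTa]
  have hvb : v b = c := by rw [hv, Perm.mul_apply, hub, hTb]
  have horb : ∀ j : ℕ, j < L → (v ^ (2 + j)) a = (u ^ j) c := by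
    intro j
    induction j with
    | zero => intro _; simp [pow_two, Perm.mul_apply, hva, hvb]
    | succ j ih =>
      intro hj
      rw [← add_assoc, pow_succ', Perm.mul_apply, ih (by omega), hv, Perm.mul_apply,
        ← Perm.mul_apply u, ← pow_succ']
      exact hT _ (hne (j + 1) c (Ne.symm hac) (Ne.symm hbc)).1
        (hne (j + 1) c (Ne.symm hac) (Ne.symm hbc)).2 (hLmin (j + 1) (by omega) hj)
  have hper : (v ^ (L + 2)) a = a := by
    have h := horb (L - 1) (by omega)
    rw [show L + 2 = (2 + (L - 1)) + 1 by omega, pow_succ', Perm.mul_apply, h, hv,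
      Perm.mul_apply, ← Perm.mul_apply u, ← pow_succ', show L - 1 + 1 = L by omega, hLc, hTc]
  have horbit : ∀ i : ℕ, (v ^ (L + 2)) ((v ^ i) a) = (v ^ i) a := fun i => by
    rw [← Perm.mul_apply, ← pow_add, Nat.add_comm (L + 2) i, pow_add, Perm.mul_apply, hper]
  have hoddL : Odd (L + 2) := by obtain ⟨r, hr⟩ := hLodd; exact ⟨r + 1, by omega⟩
  intro w
  by_cases hwa : w = a
  · subst hwa; exact ⟨L + 2, hoddL, hper⟩
  by_cases hwb : w = b
  · subst hwb
    refine ⟨L + 2, hoddL, ?_⟩
    have := horbit 1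
    rwa [pow_one, hva] at this
  by_cases hw : ∃ j : ℕ, (u ^ j) c = w
  · obtain ⟨j, hj⟩ := hw
    refine ⟨L + 2, hoddL, ?_⟩
    have h2 : (u ^ (j % L)) c = w := by
      rw [← hj]
      conv_rhs => rw [← Nat.mod_add_div j L]
      rw [pow_add, Perm.mul_apply, pow_mul_fix hLc]
    rw [← h2, ← horb (j % L) (Nat.mod_lt _ hLpos)]
    exact horbit _
  · push_neg at hw
    obtain ⟨k, hk, hkw⟩ := hu w
    refine ⟨k, hk, ?_⟩
    have hstep : ∀ j : ℕ, (v ^ j) w = (u ^ j) w := by
      intro j
      induction j with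
      | zero => simp
      | succ j ih =>
        rw [pow_succ', Perm.mul_apply, ih, hv, Perm.mul_apply, ← Perm.mul_apply u, ← pow_succ']
        refine hT _ (hne _ w hwa hwb).1 (hne _ w hwa hwb).2 ?_
        intro hh
        -- then `w` lies in the orbit of `c`
        have hk1 : (u ^ (k * (j + 1))) w = w := pow_mul_fix hkw _
        have hge : j + 1 ≤ k * (j + 1) := Nat.le_mul_of_pos_left _ hk.pos
        rw [show k * (j + 1) = (k * (j + 1) - (j + 1)) + (j + 1) by omega, pow_add,
          Perm.mul_apply, hh] at hk1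
        exact hw _ hk1
    rw [hstep, hkw]

lemma disjoint_commute_of_fixOff {s : Finset α} {x z : Perm α} (hx : FixOff s x)
    (hz : ∀ a ∈ s, z a = a) : Perm.Disjoint x z := fun a => by
  by_cases ha : a ∈ s
  · exact Or.inr (hz a ha)
  · exact Or.inl (hx a ha)

lemma FixOff.mem {s : Finset α} {x : Perm α} (hx : FixOff s x) {a : α} (ha : a ∈ s) :
    x a ∈ s := by
  by_contra h
  have h1 := hx (x a) h
  have h2 : x a = a := x.injective h1
  rw [h2] at h
  exact h ha

lemma FixOff.mono {s t : Finset α} {x : Perm α} (hx : FixOff s x) (h : s ⊆ t) : FixOff t x :=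
  fun a ha => hx a fun h' => ha (h h')

lemma FixOff.mul {s : Finset α} {x z : Perm α} (hx : FixOff s x) (hz : FixOff s z) :
    FixOff s (x * z) := fun a ha => by rw [Perm.mul_apply, hz a ha, hx a ha]

lemma fixOff_swap {s : Finset α} {a b : α} (ha : a ∈ s) (hb : b ∈ s) :
    FixOff s (Equiv.swap a b) := fun c hc =>
  Equiv.swap_apply_of_ne_of_ne (fun h => hc (h ▸ ha)) (fun h => hc (h ▸ hb))

lemma fixOff_one {s : Finset α} : FixOff s (1 : Perm α) := fun _ _ => rfl

lemma inv_one' : Inv (1 : Perm α) := fun _ => rfl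

lemma inv_swap (a b : α) : Inv (Equiv.swap a b) := fun c => Equiv.swap_apply_self a b c

lemma inv_mul_of_disjoint {x z : Perm α} (hx : Inv x) (hz : Inv z) (h : Perm.Disjoint x z) :
    Inv (x * z) := Inv.of_mul_self <| by
  rw [mul_assoc, ← mul_assoc z, h.commute.symm.eq, mul_assoc x z z, hz.mul_self, mul_one,
    hx.mul_self]

/-- Cutting a transposition out of an involution. -/
lemma inv_cut {x : Perm α} (hx : Inv x) {a b : α} (hab : x a = b) :
    Inv (x * Equiv.swap a b) ∧ (x * Equiv.swap a b) a = a ∧ (x * Equiv.swap a b) b = b ∧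
      ∀ c, c ≠ a → c ≠ b → (x * Equiv.swap a b) c = x c := by
  have hba : x b = a := by rw [← hab, hx]
  have h1 : (x * Equiv.swap a b) a = a := by simp [Perm.mul_apply, hba]
  have h2 : (x * Equiv.swap a b) b = b := by simp [Perm.mul_apply, hab]
  have h3 : ∀ c, c ≠ a → c ≠ b → (x * Equiv.swap a b) c = x c := fun c hca hcb => by
    rw [Perm.mul_apply, Equiv.swap_apply_of_ne_of_ne hca hcb]
  refine ⟨fun c => ?_, h1, h2, h3⟩
  by_cases hca : c = a
  · subst hca; rw [h1, h1]
  by_cases hcb : c = b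
  · subst hcb; rw [h2, h2]
  rw [h3 c hca hcb]
  have hxa : x c ≠ a := fun h => hcb (x.injective (h.trans hba.symm))
  have hxb : x c ≠ b := fun h => hca (x.injective (h.trans hab.symm))
  rw [h3 _ hxa hxb, hx]

lemma card_support_mul_swap [Fintype α] {x : Perm α} {a b : α} (hab : a ≠ b) (ha : x a = a)
    (hb : x b = b) : (x * Equiv.swap a b).support.card = x.support.card + 2 := by
  have hd : Perm.Disjoint x (Equiv.swap a b) := fun c => by
    by_cases hca : c = a
    · subst hca; exact Or.inl ha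
    by_cases hcb : c = b
    · subst hcb; exact Or.inl hb
    exact Or.inr (Equiv.swap_apply_of_ne_of_ne hca hcb)
  rw [hd.card_support_mul, Perm.card_support_swap hab]

end Cfsg.Agent.Lead.OddGraph
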