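import Cfsg.Agent.Lib.Lead.OddGraph.Basic

/-! Two conjugate involutions have a common neighbour in the odd product graph. -/

set_option autoImplicit false

namespace Cfsg.Agent.Lead.OddGraph

open Equiv

variable {α : Type*} [DecidableEq α] [Fintype α]

/-- A middle involution for `x` and `y`. -/
def Sol (s : Finset α) (x y : Perm α) : Prop :=
  ∃ z : Perm α, Inv z ∧ FixOff s z ∧ z.support.card = x.support.card ∧ Good (x * z) ∧ Good (z * y)

/-- The data: two involutions on `s` with the same number of moved points. -/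
structure Cfg (s : Finset α) (x y : Perm α) : Prop where
  ix : Inv x
  iy : Inv y
  fx : FixOff s x
  fy : FixOff s y
  card : x.support.card = y.support.card

/-- Two different fixed point free involutions on four points. -/
def Exc (s : Finset α) (x y : Perm α) : Prop :=
  s.card = 4 ∧ x.support = s ∧ y.support = s ∧ x ≠ y

lemma Cfg.symm {s : Finset α} {x y : Perm α} (h : Cfg s x y) : Cfg s y x :=
  ⟨h.iy, h.ix, h.fy, h.fx, h.card.symm⟩

lemma sol_symm {s : Finset α} {x y : Perm α} (hc : x.support.card = y.support.card)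
    (h : Sol s y x) : Sol s x y := by
  obtain ⟨z, hz, hf, hcard, h1, h2⟩ := h
  exact ⟨z, hz, hf, hcard.trans hc.symm, good_mul_comm h2, good_mul_comm h1⟩

lemma compose {s t : Finset α} {x1 y1 x2 y2 : Perm α} (hts : t ⊆ s) (h1 : Cfg t x1 y1)
    (h2 : Cfg (s \ t) x2 y2) (s1 : Sol t x1 y1) (s2 : Sol (s \ t) x2 y2) :
    Sol s (x1 * x2) (y1 * y2) := by
  obtain ⟨z1, hz1, hf1, hc1, ha1, hb1⟩ := s1
  obtain ⟨z2, hz2, hf2, hc2, ha2, hb2⟩ := s2
  have dis : ∀ u v : Perm α, FixOff t u → FixOff (s \ t) v → Perm.Disjoint u v := fun u v hu hv =>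
    disjoint_commute_of_fixOff hu fun a ha => hv a (by simp [ha])
  refine ⟨z1 * z2, inv_mul_of_disjoint hz1 hz2 (dis _ _ hf1 hf2),
    (hf1.mono hts).mul (hf2.mono Finset.sdiff_subset), ?_, ?_, ?_⟩
  · rw [(dis _ _ hf1 hf2).card_support_mul, (dis _ _ h1.fx h2.fx).card_support_mul, hc1, hc2]
  · rw [show x1 * x2 * (z1 * z2) = (x1 * z1) * (x2 * z2) by
      rw [mul_assoc, ← mul_assoc x2 z1, (dis _ _ hf1 h2.fx).commute.symm.eq, mul_assoc z1,
        ← mul_assoc]]
    exact good_mul (dis _ _ (h1.fx.mul hf1) (h2.fx.mul hf2)).commute ha1 ha2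
  · rw [show z1 * z2 * (y1 * y2) = (z1 * y1) * (z2 * y2) by
      rw [mul_assoc, ← mul_assoc z2 y1, (dis _ _ h1.fy hf2).commute.symm.eq, mul_assoc y1,
        ← mul_assoc]]
    exact good_mul (dis _ _ (hf1.mul h1.fy) (hf2.mul h2.fy)).commute hb1 hb2

/-- Transporting a solution from `Fin k`. -/
lemma explicit {s : Finset α} {x y : Perm α} (hcfg : Cfg s x y) {k : ℕ} (ι : Fin k → α)
    (hk : s.card = k) (hs : ∀ a ∈ s, ∃ i, ι i = a) (x0 y0 z0 : Perm (Fin k))
    (hx : ∀ i, x (ι i) = ι (x0 i)) (hy : ∀ i, y (ι i) = ι (y0 i)) (hz : z0 * z0 = 1)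
    (hcard : z0.support.card = x0.support.card) (m1 m2 : ℕ) (hm1 : Odd m1) (hm2 : Odd m2)
    (h1 : (x0 * z0) ^ m1 = 1) (h2 : (z0 * y0) ^ m2 = 1) : Sol s x y := by
  classical
  have hsub : s ⊆ Finset.univ.image ι := fun a ha => by
    obtain ⟨i, hi⟩ := hs a ha; exact Finset.mem_image.2 ⟨i, Finset.mem_univ _, hi⟩
  have hle : (Finset.univ.image ι).card ≤ (Finset.univ : Finset (Fin k)).card :=
    Finset.card_image_le
  have heq : s = Finset.univ.image ι := Finset.eq_of_subset_of_card_le hsub (by simpa [hk] using hle)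
  have hinj : Function.Injective ι := by
    have : (Finset.univ.image ι).card = (Finset.univ : Finset (Fin k)).card := by
      rw [← heq, hk]; simp
    intro i j hij
    exact Finset.card_image_iff.1 this (by simp) (by simp) hij
  let e : Fin k ↪ α := ⟨ι, hinj⟩
  let V := Equiv.Perm.viaEmbeddingHom e
  have hmem : ∀ a, a ∈ Set.range e ↔ a ∈ s := fun a => by rw [heq]; simp [e]
  have hval : ∀ (w : Perm (Fin k)) (a : α) , (∀ i, a ≠ ι i) → V w a = a := fun w a ha =>
    Equiv.Perm.viaEmbedding_apply_of_notMem _ _ _ fun ⟨i, hi⟩ => ha i hi.symm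
  have hin : ∀ (w : Perm (Fin k)) (i : Fin k), V w (ι i) = ι (w i) := fun w i =>
    Equiv.Perm.viaEmbedding_apply _ _ i
  have hlift : ∀ (w : Perm α) (w0 : Perm (Fin k)), FixOff s w → (∀ i, w (ι i) = ι (w0 i)) →
      w = V w0 := by
    intro w w0 hf hw
    ext a
    by_cases ha : ∃ i, ι i = a
    · obtain ⟨i, rfl⟩ := ha; rw [hw, hin]
    · push_neg at ha
      rw [hval _ _ fun i => (ha i).symm, hf a]
      exact fun h => by
        obtain ⟨i, hi⟩ := hs a h; exact ha i hi
  have hx' := hlift x x0 hcfg.fx hx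
  have hy' := hlift y y0 hcfg.fy hy
  have hsupp : ∀ w : Perm (Fin k), (V w).support = w.support.map e := by
    intro w
    ext a
    by_cases ha : ∃ i, ι i = a
    · obtain ⟨i, rfl⟩ := ha
      simp [hin, e, hinj.eq_iff]
    · push_neg at ha
      have h1 : V w a = a := hval _ _ fun i => (ha i).symm
      simp only [Perm.mem_support, h1, ne_eq, not_true_eq_false, Finset.mem_map, false_iff,
        not_exists, not_and]
      exact fun i _ => ha i
  have hgood : ∀ (w : Perm (Fin k)) (m : ℕ), Odd m → w ^ m = 1 → Good (V w) := fun w m hm h a =>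
    ⟨m, hm, by rw [← map_pow, h, map_one]; rfl⟩
  refine ⟨V z0, Inv.of_mul_self (by rw [← map_mul, hz, map_one]), fun a ha => ?_, ?_, ?_, ?_⟩
  · exact hval _ _ fun i h => ha ((hmem a).1 ⟨i, h.symm⟩)
  · rw [hx', hsupp, hsupp, Finset.card_map, Finset.card_map, hcard]
  · rw [hx', ← map_mul]; exact hgood _ m1 hm1 h1
  · rw [hy', ← map_mul]; exact hgood _ m2 hm2 h2

lemma exc_data {s : Finset α} {x y : Perm α} (hc : Cfg s x y) (he : Exc s x y) :
    ∃ a b c d : α, s = {a, b, c, d} ∧ x a = d ∧ x d = a ∧ x b = c ∧ x c = b ∧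
      y a = b ∧ y b = a ∧ y c = d ∧ y d = c := by
  obtain ⟨h4, hsx, hsy, hne⟩ := he
  have hmx : ∀ a ∈ s, x a ≠ a := fun a ha => Perm.mem_support.1 (hsx.symm ▸ ha)
  have hmy : ∀ a ∈ s, y a ≠ a := fun a ha => Perm.mem_support.1 (hsy.symm ▸ ha)
  obtain ⟨a, ha⟩ := Finset.card_pos.1 (by omega : 0 < s.card)
  have hb : y a ∈ s := hc.fy.mem ha
  have hab : x a ≠ y a := by
    intro h
    apply hne
    ext w
    by_cases hw : w ∈ s
    · have hr : (s \ {a, y a}).card = 2 := by
        rw [Finset.card_sdiff_of_subset (by simp [Finset.insert_subset_iff, ha, hb]),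
          Finset.card_pair (hmy a ha).symm]; omega
      by_cases hwa : w = a
      · rw [hwa, h]
      by_cases hwb : w = y a
      · rw [hwb, hc.iy, ← h, hc.ix]
      have hw' : w ∈ s \ {a, y a} := by simp [hw, hwa, hwb]
      have hxw : x w ∈ (s \ {a, y a}).erase w := by
        simp only [Finset.mem_erase, Finset.mem_sdiff, Finset.mem_insert, Finset.mem_singleton,
          not_or]
        refine ⟨hmx w hw, hc.fx.mem hw, fun e => hwb ?_, fun e => hwa ?_⟩
        · rw [← hc.ix w, e, h]
        · rw [← hc.ix w, e, ← h, hc.ix]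
      have hyw : y w ∈ (s \ {a, y a}).erase w := by
        simp only [Finset.mem_erase, Finset.mem_sdiff, Finset.mem_insert, Finset.mem_singleton,
          not_or]
        refine ⟨hmy w hw, hc.fy.mem hw, fun e => hwb ?_, fun e => hwa ?_⟩
        · rw [← hc.iy w, e]
        · exact y.injective e
      have h1 : ((s \ {a, y a}).erase w).card = 1 := by
        rw [Finset.card_erase_of_mem hw', hr]
      obtain ⟨v, hv⟩ := Finset.card_eq_one.1 h1
      rw [hv, Finset.mem_singleton] at hxw hyw
      rw [hxw, hyw]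
    · rw [hc.fx w hw, hc.fy w hw]
  have hd : x a ∈ s := hc.fx.mem ha
  have hcs : x (y a) ∈ s := hc.fx.mem hb
  have n1 : a ≠ y a := (hmy a ha).symm
  have n2 : a ≠ x (y a) := fun e => hab (by rw [← hc.ix (y a), ← e])
  have n3 : a ≠ x a := (hmx a ha).symm
  have n4 : y a ≠ x (y a) := (hmx _ hb).symm
  have n5 : y a ≠ x a := fun e => hab e.symm
  have n6 : x (y a) ≠ x a := fun e => n1 (x.injective e).symm
  have hset : s = {a, y a, x (y a), x a} := by
    symm
    apply Finset.eq_of_subset_of_card_le (by simp [Finset.insert_subset_iff, ha, hb, hd, hcs])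
    rw [h4, Finset.card_insert_of_notMem (by simp [n1, n2, n3]),
      Finset.card_insert_of_notMem (by simp [n4, n5]), Finset.card_pair n6]
  have hyc : y (x (y a)) = x a := by
    have hm := hc.fy.mem hcs
    rw [hset] at hm
    simp only [Finset.mem_insert, Finset.mem_singleton] at hm
    rcases hm with e | e | e | e
    · exact absurd (y.injective (e.trans (hc.iy a).symm)) n4.symm
    · exact absurd (y.injective e) n2.symm
    · exact absurd e (hmy _ hcs)
    · exact e
  exact ⟨a, y a, x (y a), x a, hset, rfl, hc.ix a, rfl, hc.ix _, rfl, hc.iy a, hyc,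
    by rw [← hyc, hc.iy]⟩

/-- A path end: remove two points. -/
lemma reduce_end {s : Finset α} {x y : Perm α} (hc : Cfg s x y)
    (ih : ∀ r : Finset α, r.card < s.card → ∀ u v : Perm α, Cfg r u v → ¬ Exc r u v → Sol r u v)
    {a : α} (ha : a ∈ s) (hxa : x a = a) (hya : y a ≠ a) (hxb : x (y a) ≠ y a) : Sol s x y := by
  classical
  set b := y a with hb
  set c := x b with hcdef
  have hbs : b ∈ s := hc.fy.mem ha
  have hcs : c ∈ s := hc.fx.mem hbs
  have hab : a ≠ b := fun h => hya h.symm
  have hbc : b ≠ c := fun h => hxb h.symm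
  have hac : a ≠ c := fun h => hab (x.injective (hxa.trans h))
  obtain ⟨ix', x'b, x'c, x'o⟩ := inv_cut hc.ix (a := b) (b := c) rfl
  obtain ⟨iy', y'a, y'b, y'o⟩ := inv_cut hc.iy (a := a) (b := b) rfl
  set x' := x * Equiv.swap b c with hx'
  set y' := y * Equiv.swap a b with hy'
  set r := s \ {a, b} with hr
  have x'a : x' a = a := by rw [x'o a hab hac, hxa]
  have hxeq : x = x' * Equiv.swap b c := by rw [hx', mul_assoc, Equiv.swap_mul_self, mul_one]
  have hyeq : y = y' * Equiv.swap a b := by rw [hy', mul_assoc, Equiv.swap_mul_self, mul_one]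
  have fx' : FixOff r x' := by
    intro w hw
    by_cases h1 : w = a
    · rw [h1, x'a]
    by_cases h2 : w = b
    · rw [h2, x'b]
    have hws : w ∉ s := fun h => hw (by simp [hr, h, h1, h2])
    rw [x'o w h2 (fun e => hws (e ▸ hcs)), hc.fx w hws]
  have fy' : FixOff r y' := by
    intro w hw
    by_cases h1 : w = a
    · rw [h1, y'a]
    by_cases h2 : w = b
    · rw [h2, y'b]
    have hws : w ∉ s := fun h => hw (by simp [hr, h, h1, h2])
    rw [y'o w h1 h2, hc.fy w hws]
  have cx : x.support.card = x'.support.card + 2 := by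
    conv_lhs => rw [hxeq]
    exact card_support_mul_swap hbc x'b x'c
  have cy : y.support.card = y'.support.card + 2 := by
    conv_lhs => rw [hyeq]
    exact card_support_mul_swap hab y'a y'b
  have hc' : Cfg r x' y' := ⟨ix', iy', fx', fy', by have := hc.card; omega⟩
  have hlt : r.card < s.card := Finset.card_lt_card <| by
    rw [hr]
    exact Finset.sdiff_ssubset (by simp [Finset.insert_subset_iff, ha, hbs]) (by simp)
  have hne : ¬ Exc r x' y' := fun h => by
    have : c ∈ r := by simp [hr, hcs, hac.symm, hbc.symm]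
    rw [← h.2.1, Perm.mem_support] at this
    exact this x'c
  obtain ⟨z', hz', hfz, hzc, hg1, hg2⟩ := ih r hlt x' y' hc' hne
  have za : z' a = a := hfz a (by simp [hr])
  have zb : z' b = b := hfz b (by simp [hr])
  have hd : Perm.Disjoint z' (Equiv.swap a b) := disjoint_commute_of_fixOff hfz fun w hw => by
    simp only [hr, Finset.mem_sdiff, Finset.mem_insert, Finset.mem_singleton, not_or] at hw
    exact Equiv.swap_apply_of_ne_of_ne hw.2.1 hw.2.2
  have hdy : Perm.Disjoint y' (Equiv.swap a b) := disjoint_commute_of_fixOff fy' fun w hw => by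
    simp only [hr, Finset.mem_sdiff, Finset.mem_insert, Finset.mem_singleton, not_or] at hw
    exact Equiv.swap_apply_of_ne_of_ne hw.2.1 hw.2.2
  refine ⟨z' * Equiv.swap a b, inv_mul_of_disjoint hz' (inv_swap a b) hd,
    (hfz.mono (by rw [hr]; exact Finset.sdiff_subset)).mul (fixOff_swap ha hbs), ?_, ?_, ?_⟩
  · rw [card_support_mul_swap hab za zb, hzc, cx]
  · rw [hd.commute.eq, hxeq, show x' * Equiv.swap b c * (Equiv.swap a b * z') =
      x' * ((Equiv.swap b c * Equiv.swap a b) * z') from by group]
    apply good_mul_comm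
    rw [mul_assoc]
    refine good_insert (good_mul_comm hg1) (a := b) (b := a) (c := c) ?_ ?_ ?_ ?_ ?_ ?_ hbc hac
    · rw [Perm.mul_apply, x'b, zb]
    · rw [Perm.mul_apply, x'a, za]
    · rw [Perm.mul_apply, Equiv.swap_apply_right, Equiv.swap_apply_of_ne_of_ne hab hac]
    · rw [Perm.mul_apply, Equiv.swap_apply_left, Equiv.swap_apply_left]
    · rw [Perm.mul_apply, Equiv.swap_apply_of_ne_of_ne hac.symm hbc.symm, Equiv.swap_apply_right]
    · intro w h1 h2 h3
      rw [Perm.mul_apply, Equiv.swap_apply_of_ne_of_ne h2 h1, Equiv.swap_apply_of_ne_of_ne h1 h3]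
  · rw [hyeq, hdy.commute.eq, show z' * Equiv.swap a b * (Equiv.swap a b * y') =
      z' * (Equiv.swap a b * Equiv.swap a b) * y' from by group, Equiv.swap_mul_self, mul_one]
    exact hg2

/-- A long cycle: remove four points. -/
lemma reduce_cycle {s : Finset α} {x y : Perm α} (hc : Cfg s x y)
    (ih : ∀ r : Finset α, r.card < s.card → ∀ u v : Perm α, Cfg r u v → ¬ Exc r u v → Sol r u v)
    (hmx : ∀ w ∈ s, x w ≠ w) (hmy : ∀ w ∈ s, y w ≠ w) (hxy : ∀ w ∈ s, x w ≠ y w)
    {a : α} (ha : a ∈ s) (hnc : x (y (x (y a))) ≠ a) : Sol s x y := by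
  classical
  set b := y a with hbdef
  set c := x b with hcdef
  set d := y c with hddef
  set e := x d with hedef
  set f := y e with hfdef
  have hb : b ∈ s := hc.fy.mem ha
  have hcs : c ∈ s := hc.fx.mem hb
  have hd : d ∈ s := hc.fy.mem hcs
  have he : e ∈ s := hc.fx.mem hd
  have hf : f ∈ s := hc.fy.mem he
  have xcb : x c = b := hc.ix b
  have yba : y b = a := hc.iy a
  have ydc : y d = c := hc.iy c
  have xed : x e = d := hc.ix d
  have yfe : y f = e := hc.iy e
  have ab : a ≠ b := (hmy a ha).symm
  have bc : b ≠ c := (hmx b hb).symm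
  have cd : c ≠ d := (hmy c hcs).symm
  have de : d ≠ e := (hmx d hd).symm
  have ef : e ≠ f := (hmy e he).symm
  have ac : a ≠ c := fun h => hxy b hb (h.symm.trans yba.symm)
  have ad : a ≠ d := fun h => bc (y.injective (yba.trans (h.trans hddef)))
  have ae : a ≠ e := fun h => hnc h.symm
  have bd : b ≠ d := fun h => ac (y.injective (hbdef.symm.trans (h.trans hddef)))
  have be : b ≠ e := fun h => cd (x.injective (xcb.trans (h.trans hedef)))
  have ce : c ≠ e := fun h => bd (x.injective (hcdef.symm.trans (h.trans hedef)))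
  have af : a ≠ f := fun h => be (y.injective (yba.trans (h.trans hfdef)))
  have bf : b ≠ f := fun h => ae (y.injective (hbdef.symm.trans (h.trans hfdef)))
  have cf : c ≠ f := fun h => de (y.injective (ydc.trans (h.trans hfdef)))
  have df : d ≠ f := fun h => ce (y.injective (hddef.symm.trans (h.trans hfdef)))
  -- cut `x`
  obtain ⟨ix1, x1b, x1c, x1o⟩ := inv_cut hc.ix (a := b) (b := c) rfl
  obtain ⟨ix', x'd, x'e, x'o⟩ := inv_cut ix1 (a := d) (b := e)
    (x1o d bd.symm cd.symm)
  set x' := x * Equiv.swap b c * Equiv.swap d e with hx'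
  have x'b : x' b = b := by rw [x'o b bd be]; exact x1b
  have x'c : x' c = c := by rw [x'o c cd ce]; exact x1c
  -- cut `y`
  obtain ⟨iy1, y1a, y1b, y1o⟩ := inv_cut hc.iy (a := a) (b := b) rfl
  obtain ⟨iy2, y2c, y2d, y2o⟩ := inv_cut iy1 (a := c) (b := d) (y1o c ac.symm bc.symm)
  obtain ⟨iy3, y3e, y3f, y3o⟩ := inv_cut iy2 (a := e) (b := f)
    ((y2o e ce.symm de.symm).trans (y1o e ae.symm be.symm))
  set y3 := y * Equiv.swap a b * Equiv.swap c d * Equiv.swap e f with hy3
  have y3a : y3 a = a := by rw [y3o a ae af, y2o a ac ad]; exact y1a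
  have y3b : y3 b = b := by rw [y3o b be bf, y2o b bc bd]; exact y1b
  have y3c : y3 c = c := by rw [y3o c ce cf]; exact y2c
  have y3d : y3 d = d := by rw [y3o d de df]; exact y2d
  set r := s \ {b, c, d, e} with hr
  have har : a ∈ r := by simp [hr, ha, ab, ac, ad, ae]
  have hfr : f ∈ r := by simp [hr, hf, bf.symm, cf.symm, df.symm, ef.symm]
  have fy3 : FixOff (s \ {a, b, c, d, e, f}) y3 := by
    intro w hw
    by_cases h1 : w = a
    · rw [h1, y3a]
    by_cases h2 : w = b
    · rw [h2, y3b]
    by_cases h3 : w = c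
    · rw [h3, y3c]
    by_cases h4 : w = d
    · rw [h4, y3d]
    by_cases h5 : w = e
    · rw [h5]; exact y3e
    by_cases h6 : w = f
    · rw [h6]; exact y3f
    have hws : w ∉ s := fun h => hw (by simp [h, h1, h2, h3, h4, h5, h6])
    rw [y3o w h5 h6, y2o w h3 h4, y1o w h1 h2, hc.fy w hws]
  have dy3 : Perm.Disjoint y3 (Equiv.swap a f) := disjoint_commute_of_fixOff fy3 fun w hw => by
    simp only [Finset.mem_sdiff, Finset.mem_insert, Finset.mem_singleton, not_or] at hw
    exact Equiv.swap_apply_of_ne_of_ne hw.2.1 hw.2.2.2.2.2.2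
  set y' := y3 * Equiv.swap a f with hy'
  have fx' : FixOff r x' := by
    intro w hw
    by_cases h2 : w = b
    · rw [h2, x'b]
    by_cases h3 : w = c
    · rw [h3, x'c]
    by_cases h4 : w = d
    · rw [h4]; exact x'd
    by_cases h5 : w = e
    · rw [h5]; exact x'e
    have hws : w ∉ s := fun h => hw (by simp [hr, h, h2, h3, h4, h5])
    rw [x'o w h4 h5, x1o w h2 h3, hc.fx w hws]
  have fy' : FixOff r y' := (fy3.mono (by
    intro w hw
    simp only [hr, Finset.mem_sdiff, Finset.mem_insert, Finset.mem_singleton, not_or] at hw ⊢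
    tauto)).mul (fixOff_swap har hfr)
  have cx : x.support.card = x'.support.card + 4 := by
    have e1 : x * Equiv.swap b c = x' * Equiv.swap d e := by
      rw [hx', mul_assoc _ (Equiv.swap d e), Equiv.swap_mul_self, mul_one]
    have e2 := card_support_mul_swap de x'd x'e
    rw [← e1] at e2
    have e3 := card_support_mul_swap bc x1b x1c
    rw [mul_assoc x, Equiv.swap_mul_self, mul_one] at e3
    omega
  have cy : y.support.card = y'.support.card + 4 := by
    have e1 := card_support_mul_swap ef y3e y3f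
    rw [hy3, mul_assoc _ (Equiv.swap e f), Equiv.swap_mul_self, mul_one] at e1
    have e2 := card_support_mul_swap cd y2c y2d
    rw [mul_assoc _ (Equiv.swap c d), Equiv.swap_mul_self, mul_one] at e2
    have e3 := card_support_mul_swap ab y1a y1b
    rw [mul_assoc y, Equiv.swap_mul_self, mul_one] at e3
    have e4 := card_support_mul_swap af y3a y3f
    rw [← hy'] at e4
    rw [← hy3] at e1
    omega
  have hc' : Cfg r x' y' := ⟨ix', inv_mul_of_disjoint iy3 (inv_swap a f) dy3, fx', fy',
    by have := hc.card; omega⟩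
  have hlt : r.card < s.card := Finset.card_lt_card <| by
    rw [hr]
    exact Finset.sdiff_ssubset (by simp [Finset.insert_subset_iff, hb, hcs, hd, he]) (by simp)
  by_cases hexc : Exc r x' y'
  · -- an eight cycle
    obtain ⟨h4, -, -, hne⟩ := hexc
    set g := x a with hgdef
    set h := x f with hhdef
    have gb : g ≠ b := fun E => ac (x.injective (hgdef.symm.trans (E.trans xcb.symm)))
    have gc : g ≠ c := fun E => ab (x.injective (hgdef.symm.trans (E.trans hcdef)))
    have gd : g ≠ d := fun E => ae (x.injective (hgdef.symm.trans (E.trans xed.symm)))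
    have ge : g ≠ e := fun E => ad (x.injective (hgdef.symm.trans (E.trans hedef)))
    have hb' : h ≠ b := fun E => cf.symm (x.injective (hhdef.symm.trans (E.trans xcb.symm)))
    have hc'' : h ≠ c := fun E => bf.symm (x.injective (hhdef.symm.trans (E.trans hcdef)))
    have hd' : h ≠ d := fun E => ef.symm (x.injective (hhdef.symm.trans (E.trans xed.symm)))
    have he' : h ≠ e := fun E => df.symm (x.injective (hhdef.symm.trans (E.trans hedef)))
    have ga : g ≠ a := hmx a ha
    have hff : h ≠ f := hmx f hf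
    have hgs : g ∈ r := by
      rw [hr, Finset.mem_sdiff]; exact ⟨hc.fx.mem ha, by simp [gb, gc, gd, ge]⟩
    have hhs : h ∈ r := by
      rw [hr, Finset.mem_sdiff]; exact ⟨hc.fx.mem hf, by simp [hb', hc'', hd', he']⟩
    have gf : g ≠ f := by
      intro E
      apply hne
      -- otherwise `x'` and `y'` agree
      have hr2 : (r \ {a, f}).card = 2 := by
        rw [Finset.card_sdiff_of_subset (by simp [Finset.insert_subset_iff, har, hfr]),
          Finset.card_pair af]; omega
      ext w
      by_cases hw : w ∈ r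
      · have hws : w ∈ s := (Finset.mem_sdiff.1 (hr ▸ hw)).1
        simp only [hr, Finset.mem_sdiff, Finset.mem_insert, Finset.mem_singleton, not_or] at hw
        obtain ⟨-, w2, w3, w4, w5⟩ := hw
        have ex : x' w = x w := by rw [x'o w w4 w5, x1o w w2 w3]
        by_cases hwa : w = a
        · rw [ex, hwa, ← hgdef, E, hy', Perm.mul_apply, Equiv.swap_apply_left, y3f]
        by_cases hwf : w = f
        · rw [ex, hwf, hy', Perm.mul_apply, Equiv.swap_apply_right, y3a, ← E, hgdef, hc.ix]
        have ey : y' w = y w := by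
          rw [hy', Perm.mul_apply, Equiv.swap_apply_of_ne_of_ne hwa hwf, y3o w w5 hwf,
            y2o w w3 w4, y1o w hwa w2]
        have hw' : w ∈ r \ {a, f} := by simp [hr, hws, w2, w3, w4, w5, hwa, hwf]
        have h1 : ((r \ {a, f}).erase w).card = 1 := by
          rw [Finset.card_erase_of_mem hw', hr2]
        obtain ⟨v, hv⟩ := Finset.card_eq_one.1 h1
        have hx_mem : x w ∈ (r \ {a, f}).erase w := by
          simp only [Finset.mem_erase, Finset.mem_sdiff, Finset.mem_insert, Finset.mem_singleton,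
            not_or]
          refine ⟨hmx w hws, ex ▸ fx'.mem (by simp [hr, hws, w2, w3, w4, w5]),
            fun h' => hwf ?_, fun h' => hwa ?_⟩
          · rw [← hc.ix w, h', ← hgdef, E]
          · rw [← hc.ix w, h', ← E, hgdef, hc.ix]
        have hy_mem : y w ∈ (r \ {a, f}).erase w := by
          simp only [Finset.mem_erase, Finset.mem_sdiff, Finset.mem_insert, Finset.mem_singleton,
            not_or]
          refine ⟨hmy w hws, ey ▸ fy'.mem (by simp [hr, hws, w2, w3, w4, w5]),
            fun h' => w2 ?_, fun h' => w5 ?_⟩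
          · rw [← hc.iy w, h']
          · rw [← hc.iy w, h', yfe]
        rw [hv, Finset.mem_singleton] at hx_mem hy_mem
        rw [ex, ey, hx_mem, hy_mem]
      · rw [fx' w hw, fy' w hw]
    have ha' : h ≠ a := fun E => gf (by rw [hgdef, ← E, hhdef, hc.ix])
    have gh : g ≠ h := fun E => af (x.injective E)
    have hset : r = {a, f, g, h} := by
      symm
      apply Finset.eq_of_subset_of_card_le (by simp [Finset.insert_subset_iff, har, hfr, hgs, hhs])
      rw [h4, Finset.card_insert_of_notMem (by simp [af, ga.symm, ha'.symm]),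
        Finset.card_insert_of_notMem (by simp [gf.symm, hff.symm]), Finset.card_pair gh]
    have hgs' : g ∈ s := hc.fx.mem ha
    have ygh : y g = h := by
      have hm : y g ∈ r := by
        simp only [hr, Finset.mem_sdiff, Finset.mem_insert, Finset.mem_singleton, not_or]
        refine ⟨hc.fy.mem hgs', fun E => ga ?_, fun E => gd ?_, fun E => gc ?_, fun E => gf ?_⟩
        · rw [← hc.iy g, E, yba]
        · rw [← hc.iy g, E]
        · rw [← hc.iy g, E, ydc]
        · rw [← hc.iy g, E]
      rw [hset] at hm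
      simp only [Finset.mem_insert, Finset.mem_singleton] at hm
      rcases hm with E | E | E | E
      · exact absurd (y.injective (E.trans yba.symm)) gb
      · exact absurd (y.injective (E.trans hfdef)) ge
      · exact absurd E (hmy g hgs')
      · exact E
    have yhg : y h = g := by rw [← ygh, hc.iy]
    have hs8 : s.card = 8 := by
      have hsub : ({b, c, d, e} : Finset α) ⊆ s := by
        simp [Finset.insert_subset_iff, hb, hcs, hd, he]
      have h' := Finset.card_sdiff_add_card_eq_card hsub
      rw [← hr, h4, Finset.card_insert_of_notMem (by simp [bc, bd, be]),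
        Finset.card_insert_of_notMem (by simp [cd, ce]), Finset.card_pair de] at h'
      omega
    refine explicit hc ![b, c, d, e, f, h, g, a] hs8 ?_
      (Equiv.swap 0 1 * Equiv.swap 2 3 * Equiv.swap 4 5 * Equiv.swap 6 7)
      (Equiv.swap 1 2 * Equiv.swap 3 4 * Equiv.swap 5 6 * Equiv.swap 7 0)
      (Equiv.swap 0 1 * Equiv.swap 3 4 * Equiv.swap 6 2 * Equiv.swap 7 5) ?_ ?_
      (by decide +kernel) (by decide +kernel) 3 3 (by decide) (by decide)
      (by decide +kernel) (by decide +kernel)
    · intro w hw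
      by_cases hwr : w ∈ r
      · rw [hset] at hwr
        simp only [Finset.mem_insert, Finset.mem_singleton] at hwr
        rcases hwr with rfl | rfl | rfl | rfl
        exacts [⟨7, rfl⟩, ⟨4, rfl⟩, ⟨6, rfl⟩, ⟨5, rfl⟩]
      · simp only [hr, Finset.mem_sdiff, Finset.mem_insert, Finset.mem_singleton, hw, true_and,
          not_not] at hwr
        rcases hwr with rfl | rfl | rfl | rfl
        exacts [⟨0, rfl⟩, ⟨1, rfl⟩, ⟨2, rfl⟩, ⟨3, rfl⟩]
    · intro i
      fin_cases i
      exacts [rfl, xcb, rfl, xed, rfl, hc.ix f, hc.ix a, rfl]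
    · intro i
      fin_cases i
      exacts [yba, rfl, ydc, rfl, yfe, yhg, ygh, rfl]
  · obtain ⟨z', hz', hfz, hzc, hg1, hg2⟩ := ih r hlt x' y' hc' hexc
    have fixr : ∀ (w : Perm α), FixOff r w → ∀ p q : α, p ∈ ({b, c, d, e} : Finset α) →
        q ∈ ({b, c, d, e} : Finset α) → Perm.Disjoint w (Equiv.swap p q) := by
      intro w hw p q hp hq
      refine disjoint_commute_of_fixOff hw fun v hv => ?_
      rw [hr, Finset.mem_sdiff] at hv
      exact Equiv.swap_apply_of_ne_of_ne (fun E => hv.2 (E ▸ hp)) (fun E => hv.2 (E ▸ hq))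
    have mb : b ∈ ({b, c, d, e} : Finset α) := by simp
    have mc : c ∈ ({b, c, d, e} : Finset α) := by simp
    have md : d ∈ ({b, c, d, e} : Finset α) := by simp
    have me : e ∈ ({b, c, d, e} : Finset α) := by simp
    have zb : z' b = b := hfz b (by simp [hr])
    have zc : z' c = c := hfz c (by simp [hr])
    have zd : z' d = d := hfz d (by simp [hr])
    have ze : z' e = e := hfz e (by simp [hr])
    have d1 := fixr z' hfz b c mb mc
    have i1 : Inv (z' * Equiv.swap b c) := inv_mul_of_disjoint hz' (inv_swap b c) d1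
    have d2 : Perm.Disjoint (z' * Equiv.swap b c) (Equiv.swap d e) := by
      refine (fixr z' hfz d e md me).mul_left fun v => ?_
      by_cases hv : v = b
      · exact Or.inr (Equiv.swap_apply_of_ne_of_ne (hv ▸ bd) (hv ▸ be))
      by_cases hv' : v = c
      · exact Or.inr (Equiv.swap_apply_of_ne_of_ne (hv' ▸ cd) (hv' ▸ ce))
      exact Or.inl (Equiv.swap_apply_of_ne_of_ne hv hv')
    refine ⟨z' * Equiv.swap b c * Equiv.swap d e, inv_mul_of_disjoint i1 (inv_swap d e) d2,
      ((hfz.mono (by rw [hr]; exact Finset.sdiff_subset)).mul (fixOff_swap hb hcs)).mul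
        (fixOff_swap hd he), ?_, ?_, ?_⟩
    · rw [card_support_mul_swap de, card_support_mul_swap bc zb zc, hzc, cx]
      · rw [Perm.mul_apply, Equiv.swap_apply_of_ne_of_ne bd.symm cd.symm, zd]
      · rw [Perm.mul_apply, Equiv.swap_apply_of_ne_of_ne be.symm ce.symm, ze]
    · have hsc : Commute (Equiv.swap b c) (Equiv.swap d e) := by
        refine Perm.Disjoint.commute fun v => ?_
        by_cases hv : v = b
        · exact Or.inr (Equiv.swap_apply_of_ne_of_ne (hv ▸ bd) (hv ▸ be))
        by_cases hv' : v = c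
        · exact Or.inr (Equiv.swap_apply_of_ne_of_ne (hv' ▸ cd) (hv' ▸ ce))
        exact Or.inl (Equiv.swap_apply_of_ne_of_ne hv hv')
      have hxeq : x = x' * (Equiv.swap d e * Equiv.swap b c) := by
        rw [hx']; simp [mul_assoc, Equiv.swap_mul_self_mul]
      have hcom : Commute z' (Equiv.swap b c * Equiv.swap d e) :=
        d1.commute.mul_right (fixr z' hfz d e md me).commute
      rw [hxeq, mul_assoc z', hcom.eq, show x' * (Equiv.swap d e * Equiv.swap b c) *
        (Equiv.swap b c * Equiv.swap d e * z') =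
        x' * (Equiv.swap d e * (Equiv.swap b c * Equiv.swap b c) * Equiv.swap d e) * z' from by
          group, Equiv.swap_mul_self, mul_one, Equiv.swap_mul_self, mul_one]
      exact hg1
    · have hyeq : y = y' * (Equiv.swap a f * Equiv.swap e f * Equiv.swap c d * Equiv.swap a b) := by
        rw [hy', hy3]; simp [mul_assoc, Equiv.swap_mul_self_mul]
      set T1 : Perm α := Equiv.swap c e * Equiv.swap e a
      set T2 : Perm α := Equiv.swap d b * Equiv.swap b f
      have hT : Equiv.swap b c * Equiv.swap d e *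
          (Equiv.swap a f * Equiv.swap e f * Equiv.swap c d * Equiv.swap a b) = T2 * T1 := by
        ext w
        simp only [T1, T2, Perm.mul_apply]
        by_cases h1 : w = a
        · subst h1
          simp [Equiv.swap_apply_of_ne_of_ne, ab, ac, ad, ae, af, ab.symm, ac.symm, ad.symm, ae.symm,
            af.symm, bc, bd, be, bf, cd, ce, cf, de, df, ef, bc.symm, bd.symm, be.symm, bf.symm,
            cd.symm, ce.symm, cf.symm, de.symm, df.symm, ef.symm]
        by_cases h2 : w = b
        · subst h2
          simp [Equiv.swap_apply_of_ne_of_ne, ab, ac, ad, ae, af, ab.symm, ac.symm, ad.symm, ae.symm,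
            af.symm, bc, bd, be, bf, cd, ce, cf, de, df, ef, bc.symm, bd.symm, be.symm, bf.symm,
            cd.symm, ce.symm, cf.symm, de.symm, df.symm, ef.symm]
        by_cases h3 : w = c
        · subst h3
          simp [Equiv.swap_apply_of_ne_of_ne, ab, ac, ad, ae, af, ab.symm, ac.symm, ad.symm, ae.symm,
            af.symm, bc, bd, be, bf, cd, ce, cf, de, df, ef, bc.symm, bd.symm, be.symm, bf.symm,
            cd.symm, ce.symm, cf.symm, de.symm, df.symm, ef.symm]
        by_cases h4 : w = d
        · subst h4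
          simp [Equiv.swap_apply_of_ne_of_ne, ab, ac, ad, ae, af, ab.symm, ac.symm, ad.symm, ae.symm,
            af.symm, bc, bd, be, bf, cd, ce, cf, de, df, ef, bc.symm, bd.symm, be.symm, bf.symm,
            cd.symm, ce.symm, cf.symm, de.symm, df.symm, ef.symm]
        by_cases h5 : w = e
        · subst h5
          simp [Equiv.swap_apply_of_ne_of_ne, ab, ac, ad, ae, af, ab.symm, ac.symm, ad.symm, ae.symm,
            af.symm, bc, bd, be, bf, cd, ce, cf, de, df, ef, bc.symm, bd.symm, be.symm, bf.symm,
            cd.symm, ce.symm, cf.symm, de.symm, df.symm, ef.symm]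
        by_cases h6 : w = f
        · subst h6
          simp [Equiv.swap_apply_of_ne_of_ne, ab, ac, ad, ae, af, ab.symm, ac.symm, ad.symm, ae.symm,
            af.symm, bc, bd, be, bf, cd, ce, cf, de, df, ef, bc.symm, bd.symm, be.symm, bf.symm,
            cd.symm, ce.symm, cf.symm, de.symm, df.symm, ef.symm]
        simp [Equiv.swap_apply_of_ne_of_ne, h1, h2, h3, h4, h5, h6]
      have hcom : Commute y' (Equiv.swap b c * Equiv.swap d e) :=
        (fixr y' fy' b c mb mc).commute.mul_right (fixr y' fy' d e md me).commute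
      rw [hyeq, show z' * Equiv.swap b c * Equiv.swap d e *
        (y' * (Equiv.swap a f * Equiv.swap e f * Equiv.swap c d * Equiv.swap a b)) =
        z' * ((Equiv.swap b c * Equiv.swap d e) * y') *
          (Equiv.swap a f * Equiv.swap e f * Equiv.swap c d * Equiv.swap a b) from by group,
        ← hcom.eq, show z' * (y' * (Equiv.swap b c * Equiv.swap d e)) *
          (Equiv.swap a f * Equiv.swap e f * Equiv.swap c d * Equiv.swap a b) =
        (z' * y') * ((Equiv.swap b c * Equiv.swap d e) *
          (Equiv.swap a f * Equiv.swap e f * Equiv.swap c d * Equiv.swap a b)) from by group, hT]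
      apply good_mul_comm
      have ub : (z' * y') b = b := by rw [Perm.mul_apply, fy' b (by simp [hr]), zb]
      have uc : (z' * y') c = c := by rw [Perm.mul_apply, fy' c (by simp [hr]), zc]
      have ud : (z' * y') d = d := by rw [Perm.mul_apply, fy' d (by simp [hr]), zd]
      have ue : (z' * y') e = e := by rw [Perm.mul_apply, fy' e (by simp [hr]), ze]
      have g1 : Good (T1 * (z' * y')) := by
        refine good_insert hg2 (a := c) (b := e) (c := a) uc ue ?_ ?_ ?_ ?_ ac.symm ae.symm
        · simp [T1, Perm.mul_apply, Equiv.swap_apply_of_ne_of_ne ce ac.symm]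
        · simp [T1, Perm.mul_apply, Equiv.swap_apply_of_ne_of_ne ac ae]
        · simp [T1, Perm.mul_apply]
        · intro w h1 h2 h3
          simp [T1, Perm.mul_apply, Equiv.swap_apply_of_ne_of_ne, h1, h2, h3]
      rw [mul_assoc]
      refine good_insert g1 (a := d) (b := b) (c := f) ?_ ?_ ?_ ?_ ?_ ?_ df bf
      · rw [Perm.mul_apply, ud]
        simp [T1, Perm.mul_apply, Equiv.swap_apply_of_ne_of_ne, cd.symm, de, ad.symm]
      · rw [Perm.mul_apply, ub]
        simp [T1, Perm.mul_apply, Equiv.swap_apply_of_ne_of_ne, bc, be, ab.symm]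
      · simp [T2, Perm.mul_apply, Equiv.swap_apply_of_ne_of_ne bd.symm df]
      · simp [T2, Perm.mul_apply, Equiv.swap_apply_of_ne_of_ne df.symm bf.symm]
      · simp [T2, Perm.mul_apply]
      · intro w h1 h2 h3
        simp [T2, Perm.mul_apply, Equiv.swap_apply_of_ne_of_ne, h1, h2, h3]

end Cfsg.Agent.Lead.OddGraph
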