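import Cfsg.Agent.Lib.Lead.OddGraph.Main

/-! Assembling the induction. -/

set_option autoImplicit false

namespace Cfsg.Agent.Lead.OddGraph

open Equiv

variable {α : Type*} [DecidableEq α] [Fintype α]

lemma restr_exists {s t : Finset α} {x : Perm α} (hx : Inv x) (_hf : FixOff s x)
    (ht : ∀ a ∈ t, x a ∈ t) :
    ∃ x1 : Perm α, Inv x1 ∧ FixOff t x1 ∧ ∀ a ∈ t, x1 a = x a := by
  classical
  have hinv : Function.Involutive (fun a => if a ∈ t then x a else a) := by
    intro a
    by_cases ha : a ∈ t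
    · simp [ha, ht a ha, hx a]
    · simp [ha]
  refine ⟨hinv.toPerm, fun a => hinv a, fun a ha => ?_, fun a ha => ?_⟩
  · simp [Function.Involutive.coe_toPerm, ha]
  · simp [Function.Involutive.coe_toPerm, ha]

/-- Splitting off an invariant piece `t`. -/
lemma split {s t : Finset α} {x y x1 y1 : Perm α} (hc : Cfg s x y)
    (ih : ∀ r : Finset α, r.card < s.card → ∀ u v : Perm α, Cfg r u v → ¬ Exc r u v → Sol r u v)
    (hts : t ⊆ s) (ht : t.Nonempty) (h1 : Cfg t x1 y1)
    (hv : ∀ a ∈ t, x a = x1 a ∧ y a = y1 a) (s1 : Sol t x1 y1)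
    (hexc : ∀ p q u v : α, s \ t = {p, q, u, v} → s.card = t.card + 4 →
      (x p = v ∧ x v = p ∧ x q = u ∧ x u = q) → (y p = q ∧ y q = p ∧ y u = v ∧ y v = u) →
        Sol s x y) :
    Sol s x y := by
  classical
  have cut : ∀ (w w1 : Perm α), Inv w → Inv w1 → FixOff s w → FixOff t w1 →
      (∀ a ∈ t, w a = w1 a) → FixOff (s \ t) (w1 * w) ∧ Inv (w1 * w) ∧
        (∀ a, a ∉ t → (w1 * w) a = w a) ∧ w = w1 * (w1 * w) := by
    intro w w1 hw hw1 hf hf1 hval
    have hout : ∀ a, a ∉ t → (w1 * w) a = w a := by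
      intro a ha
      rw [Perm.mul_apply]
      apply hf1
      intro hwa
      apply ha
      have h' := hval _ hwa
      rw [hw] at h'
      rw [h']
      exact hf1.mem hwa
    have hin : ∀ a, a ∈ t → (w1 * w) a = a := fun a ha => by rw [Perm.mul_apply, hval a ha, hw1]
    refine ⟨fun a ha => ?_, fun a => ?_, hout, by rw [← mul_assoc, hw1.mul_self, one_mul]⟩
    · by_cases h : a ∈ t
      · exact hin a h
      · rw [hout a h]; exact hf a fun h' => ha (Finset.mem_sdiff.2 ⟨h', h⟩)
    · by_cases h : a ∈ t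
      · rw [hin a h, hin a h]
      · have hwa : w a ∉ t := fun h' => h (by
          have h'' := hval _ h'
          rw [hw] at h''
          rw [h'']; exact hf1.mem h')
        rw [hout a h, hout _ hwa, hw]
  obtain ⟨fx2, ix2, xo, xeq⟩ := cut x x1 hc.ix h1.ix hc.fx h1.fx fun a ha => (hv a ha).1
  obtain ⟨fy2, iy2, yo, yeq⟩ := cut y y1 hc.iy h1.iy hc.fy h1.fy fun a ha => (hv a ha).2
  have dis : ∀ u v : Perm α, FixOff t u → FixOff (s \ t) v → Perm.Disjoint u v := fun u v hu hv' =>
    disjoint_commute_of_fixOff hu fun a ha => hv' a (by simp [ha])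
  have hc2 : Cfg (s \ t) (x1 * x) (y1 * y) := by
    refine ⟨ix2, iy2, fx2, fy2, ?_⟩
    have e1 := (dis _ _ h1.fx fx2).card_support_mul
    have e2 := (dis _ _ h1.fy fy2).card_support_mul
    rw [← xeq] at e1
    rw [← yeq] at e2
    have := hc.card
    have := h1.card
    omega
  by_cases he : Exc (s \ t) (x1 * x) (y1 * y)
  · obtain ⟨p, q, u, v, hset, xp, xv, xq, xu, yp, yq, yu, yv⟩ := exc_data hc2 he
    have hm : ∀ a ∈ ({p, q, u, v} : Finset α), a ∉ t := fun a ha => by
      rw [← hset] at ha; exact (Finset.mem_sdiff.1 ha).2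
    refine hexc p q u v hset ?_ ?_ ?_
    · have := Finset.card_sdiff_add_card_eq_card hts
      have := he.1
      omega
    · rw [xo _ (hm p (by simp))] at xp
      rw [xo _ (hm v (by simp))] at xv
      rw [xo _ (hm q (by simp))] at xq
      rw [xo _ (hm u (by simp))] at xu
      exact ⟨xp, xv, xq, xu⟩
    · rw [yo _ (hm p (by simp))] at yp
      rw [yo _ (hm q (by simp))] at yq
      rw [yo _ (hm u (by simp))] at yu
      rw [yo _ (hm v (by simp))] at yv
      exact ⟨yp, yq, yu, yv⟩
  · have hlt : (s \ t).card < s.card := Finset.card_lt_card (Finset.sdiff_ssubset hts ht)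
    rw [xeq, yeq]
    exact compose hts h1 hc2 s1 (ih _ hlt _ _ hc2 he)

/-- Four points forming a square. -/
lemma square {s : Finset α} {x y : Perm α} (hc : Cfg s x y)
    (hmx : ∀ w ∈ s, x w ≠ w) (hmy : ∀ w ∈ s, y w ≠ w) (hxy : ∀ w ∈ s, x w ≠ y w)
    {a : α} (ha : a ∈ s) (hsq : x (y (x (y a))) = a) :
    ({a, y a, x (y a), y (x (y a))} : Finset α).card = 4 ∧
      ({a, y a, x (y a), y (x (y a))} : Finset α) ⊆ s ∧
      (∀ w ∈ ({a, y a, x (y a), y (x (y a))} : Finset α),
        x w ∈ ({a, y a, x (y a), y (x (y a))} : Finset α) ∧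
        y w ∈ ({a, y a, x (y a), y (x (y a))} : Finset α)) ∧ x a = y (x (y a)) := by
  set b := y a with hb
  set c := x b with hcd
  set d := y c with hd
  have hbs : b ∈ s := hc.fy.mem ha
  have hcs : c ∈ s := hc.fx.mem hbs
  have hds : d ∈ s := hc.fy.mem hcs
  have xa : x a = d := by rw [← hsq, hc.ix]
  have ab : a ≠ b := (hmy a ha).symm
  have bc : b ≠ c := (hmx b hbs).symm
  have cd : c ≠ d := (hmy c hcs).symm
  have ac : a ≠ c := fun h => hxy b hbs (h.symm.trans (hc.iy a).symm)
  have ad : a ≠ d := fun h => bc (y.injective ((hc.iy a).trans (h.trans hd)))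
  have bd : b ≠ d := fun h => ac (y.injective (hb.symm.trans (h.trans hd)))
  refine ⟨?_, by simp [Finset.insert_subset_iff, ha, hbs, hcs, hds], ?_, xa⟩
  · rw [Finset.card_insert_of_notMem (by simp [ab, ac, ad]),
      Finset.card_insert_of_notMem (by simp [bc, bd]), Finset.card_pair cd]
  · intro w hw
    simp only [Finset.mem_insert, Finset.mem_singleton] at hw ⊢
    rcases hw with rfl | rfl | rfl | rfl
    · exact ⟨Or.inr (Or.inr (Or.inr xa)), Or.inr (Or.inl hb.symm)⟩
    · exact ⟨Or.inr (Or.inr (Or.inl hcd.symm)), Or.inl (hc.iy a)⟩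
    · exact ⟨Or.inr (Or.inl (hc.ix b)), Or.inr (Or.inr (Or.inr hd.symm))⟩
    · exact ⟨Or.inl hsq, Or.inr (Or.inr (Or.inl (hc.iy c)))⟩

lemma pair_sol {s : Finset α} {x y : Perm α} (hc : Cfg s x y)
    (ih : ∀ r : Finset α, r.card < s.card → ∀ u v : Perm α, Cfg r u v → ¬ Exc r u v → Sol r u v)
    {a d : α} (ha : a ∈ s) (hd : d ∈ s) (xa : x a = a) (ya : y a ≠ a) (xb : x (y a) = y a)
    (yd : y d = d) (xd : x d ≠ d) (ye : y (x d) = x d) : Sol s x y := by
  set b := y a with hb
  set e := x d with he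
  have hbs : b ∈ s := hc.fy.mem ha
  have hes : e ∈ s := hc.fx.mem hd
  have ab : a ≠ b := fun h => ya h.symm
  have de : d ≠ e := fun h => xd h.symm
  have ad : a ≠ d := fun h => ya (hb.trans ((congrArg y h).trans (yd.trans h.symm)))
  have ae : a ≠ e := fun h => ya (hb.trans ((congrArg y h).trans (ye.trans h.symm)))
  have bd : b ≠ d := fun h => xd (he.trans ((congrArg x h.symm).trans (xb.trans h)))
  have be : b ≠ e := fun h => bd (x.injective (xb.trans (h.trans he)))
  set t : Finset α := {a, b, d, e} with ht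
  have hts : t ⊆ s := by simp [ht, Finset.insert_subset_iff, ha, hbs, hd, hes]
  have h1 : Cfg t (Equiv.swap d e) (Equiv.swap a b) :=
    ⟨inv_swap d e, inv_swap a b, fixOff_swap (by simp [ht]) (by simp [ht]),
      fixOff_swap (by simp [ht]) (by simp [ht]),
      by rw [Perm.card_support_swap de, Perm.card_support_swap ab]⟩
  have fix1 : ∀ w : α, (1 : Perm α) w = w := fun _ => rfl
  refine split hc ih hts ⟨a, by simp [ht]⟩ h1 ?_ ⟨Equiv.swap a d, inv_swap a d,
    fixOff_swap (by simp [ht]) (by simp [ht]),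
    by rw [Perm.card_support_swap de, Perm.card_support_swap ad], ?_, ?_⟩ ?_
  · intro w hw
    simp only [ht, Finset.mem_insert, Finset.mem_singleton] at hw
    rcases hw with rfl | rfl | rfl | rfl
    · exact ⟨by rw [xa, Equiv.swap_apply_of_ne_of_ne ad ae], by rw [Equiv.swap_apply_left]⟩
    · exact ⟨by rw [xb, Equiv.swap_apply_of_ne_of_ne bd be],
        by rw [Equiv.swap_apply_right, hb, hc.iy]⟩
    · exact ⟨by rw [Equiv.swap_apply_left],
        by rw [yd, Equiv.swap_apply_of_ne_of_ne ad.symm bd.symm]⟩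
    · exact ⟨by rw [Equiv.swap_apply_right, he, hc.ix],
        by rw [ye, Equiv.swap_apply_of_ne_of_ne ae.symm be.symm]⟩
  · have := good_insert (good_one (α := α)) (a := d) (b := a) (c := e) (fix1 d) (fix1 a)
      (T := Equiv.swap d e * Equiv.swap a d)
      (by rw [Perm.mul_apply, Equiv.swap_apply_right, Equiv.swap_apply_of_ne_of_ne ad ae])
      (by rw [Perm.mul_apply, Equiv.swap_apply_left, Equiv.swap_apply_left])
      (by rw [Perm.mul_apply, Equiv.swap_apply_of_ne_of_ne ae.symm de.symm, Equiv.swap_apply_right])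
      (fun w h1 h2 h3 => by
        rw [Perm.mul_apply, Equiv.swap_apply_of_ne_of_ne h2 h1, Equiv.swap_apply_of_ne_of_ne h1 h3])
      de ae
    rwa [mul_one] at this
  · have := good_insert (good_one (α := α)) (a := a) (b := b) (c := d) (fix1 a) (fix1 b)
      (T := Equiv.swap a d * Equiv.swap a b)
      (by rw [Perm.mul_apply, Equiv.swap_apply_left, Equiv.swap_apply_of_ne_of_ne ab.symm bd])
      (by rw [Perm.mul_apply, Equiv.swap_apply_right, Equiv.swap_apply_left])
      (by rw [Perm.mul_apply, Equiv.swap_apply_of_ne_of_ne ad.symm bd.symm, Equiv.swap_apply_right])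
      (fun w h1 h2 h3 => by
        rw [Perm.mul_apply, Equiv.swap_apply_of_ne_of_ne h1 h2, Equiv.swap_apply_of_ne_of_ne h1 h3])
      ad bd
    rwa [mul_one] at this
  · intro p q u v hset hcard hxv hyv
    obtain ⟨xp, xv, xq, xu⟩ := hxv
    obtain ⟨yp, yq, yu, yv⟩ := hyv
    have h8 : s.card = 8 := by
      rw [hcard, ht, Finset.card_insert_of_notMem (by simp [ab, ad, ae]),
        Finset.card_insert_of_notMem (by simp [bd, be]), Finset.card_pair de]
    refine explicit hc ![p, v, u, q, d, e, a, b] h8 ?_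
      (Equiv.swap 0 1 * Equiv.swap 2 3 * Equiv.swap 4 5)
      (Equiv.swap 0 3 * Equiv.swap 1 2 * Equiv.swap 6 7)
      (Equiv.swap 4 6 * Equiv.swap 0 7 * Equiv.swap 1 3) ?_ ?_
      (by decide +kernel) (by decide +kernel) 15 7 (by decide) (by decide)
      (by decide +kernel) (by decide +kernel)
    · intro w hw
      by_cases hwt : w ∈ t
      · simp only [ht, Finset.mem_insert, Finset.mem_singleton] at hwt
        rcases hwt with rfl | rfl | rfl | rfl
        exacts [⟨6, rfl⟩, ⟨7, rfl⟩, ⟨4, rfl⟩, ⟨5, rfl⟩]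
      · have hm : w ∈ s \ t := by simp [hw, hwt]
        rw [hset] at hm
        simp only [Finset.mem_insert, Finset.mem_singleton] at hm
        rcases hm with rfl | rfl | rfl | rfl
        exacts [⟨0, rfl⟩, ⟨3, rfl⟩, ⟨2, rfl⟩, ⟨1, rfl⟩]
    · intro i
      fin_cases i
      exacts [xp, xv, xu, xq, rfl, hc.ix d, xa, xb]
    · intro i
      fin_cases i
      exacts [yp, yv, yu, yq, yd, ye, rfl, hc.iy a]

theorem exists_middle : ∀ (k : ℕ) (s : Finset α), s.card = k → ∀ x y : Perm α, Cfg s x y →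
    ¬ Exc s x y → Sol s x y := by
  intro k
  induction k using Nat.strong_induction_on with
  | h k IH =>
    intro s hk x y hc hne
    have ih : ∀ r : Finset α, r.card < s.card → ∀ u v : Perm α, Cfg r u v → ¬ Exc r u v →
        Sol r u v := fun r hr => IH r.card (hk ▸ hr) r rfl
    by_cases hA : ∃ a ∈ s, x a = a ∧ y a = a
    · obtain ⟨a, ha, xa, ya⟩ := hA
      refine split hc ih (t := {a}) (Finset.singleton_subset_iff.2 ha) ⟨a, by simp⟩
        (x1 := 1) (y1 := 1) ⟨inv_one', inv_one', fixOff_one, fixOff_one, rfl⟩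
        (fun w hw => ?_) ⟨1, inv_one', fixOff_one, rfl, by simpa using good_one,
          by simpa using good_one⟩ ?_
      · rw [Finset.mem_singleton] at hw; subst hw; simp [xa, ya]
      · intro p q u v hset hcard hxv hyv
        obtain ⟨xp, xv, xq, xu⟩ := hxv
        obtain ⟨yp, yq, yu, yv⟩ := hyv
        refine explicit hc ![p, v, u, q, a] (by simp [hcard]) ?_
          (Equiv.swap 0 1 * Equiv.swap 2 3) (Equiv.swap 0 3 * Equiv.swap 1 2)
          (Equiv.swap 0 4 * Equiv.swap 1 3) ?_ ?_
          (by decide +kernel) (by decide +kernel) 5 5 (by decide) (by decide)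
          (by decide +kernel) (by decide +kernel)
        · intro w hw
          by_cases hwt : w = a
          · exact ⟨4, hwt.symm⟩
          · have hm : w ∈ s \ {a} := by simp [hw, hwt]
            rw [hset] at hm
            simp only [Finset.mem_insert, Finset.mem_singleton] at hm
            rcases hm with rfl | rfl | rfl | rfl
            exacts [⟨0, rfl⟩, ⟨3, rfl⟩, ⟨2, rfl⟩, ⟨1, rfl⟩]
        · intro i
          fin_cases i
          exacts [xp, xv, xu, xq, xa]
        · intro i
          fin_cases i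
          exacts [yp, yv, yu, yq, ya]
    by_cases hB : ∃ a ∈ s, x a ≠ a ∧ x a = y a
    · obtain ⟨a, ha, xa, xy⟩ := hB
      set b := x a with hb
      have hbs : b ∈ s := hc.fx.mem ha
      have ab : a ≠ b := fun h => xa h.symm
      have fab : FixOff ({a, b} : Finset α) (Equiv.swap a b) :=
        fixOff_swap (by simp) (by simp)
      refine split hc ih (t := {a, b}) (by simp [Finset.insert_subset_iff, ha, hbs]) ⟨a, by simp⟩
        (x1 := Equiv.swap a b) (y1 := Equiv.swap a b)
        ⟨inv_swap a b, inv_swap a b, fab, fab, rfl⟩ (fun w hw => ?_)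
        ⟨Equiv.swap a b, inv_swap a b, fab, rfl, by rw [Equiv.swap_mul_self]; exact good_one,
          by rw [Equiv.swap_mul_self]; exact good_one⟩ ?_
      · simp only [Finset.mem_insert, Finset.mem_singleton] at hw
        rcases hw with rfl | rfl
        · exact ⟨by rw [Equiv.swap_apply_left], by rw [Equiv.swap_apply_left, xy]⟩
        · exact ⟨by rw [Equiv.swap_apply_right, hb, hc.ix],
            by rw [Equiv.swap_apply_right, xy, hc.iy]⟩
      · intro p q u v hset hcard hxv hyv
        obtain ⟨xp, xv, xq, xu⟩ := hxv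
        obtain ⟨yp, yq, yu, yv⟩ := hyv
        refine explicit hc ![p, v, u, q, a, b] (by rw [hcard, Finset.card_pair ab]) ?_
          (Equiv.swap 0 1 * Equiv.swap 2 3 * Equiv.swap 4 5)
          (Equiv.swap 0 3 * Equiv.swap 1 2 * Equiv.swap 4 5)
          (Equiv.swap 0 4 * Equiv.swap 2 5 * Equiv.swap 1 3) ?_ ?_
          (by decide +kernel) (by decide +kernel) 3 3 (by decide) (by decide)
          (by decide +kernel) (by decide +kernel)
        · intro w hw
          by_cases hwt : w ∈ ({a, b} : Finset α)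
          · simp only [Finset.mem_insert, Finset.mem_singleton] at hwt
            rcases hwt with rfl | rfl
            exacts [⟨4, rfl⟩, ⟨5, rfl⟩]
          · have hm : w ∈ s \ {a, b} := Finset.mem_sdiff.2 ⟨hw, hwt⟩
            rw [hset] at hm
            simp only [Finset.mem_insert, Finset.mem_singleton] at hm
            rcases hm with rfl | rfl | rfl | rfl
            exacts [⟨0, rfl⟩, ⟨3, rfl⟩, ⟨2, rfl⟩, ⟨1, rfl⟩]
        · intro i
          fin_cases i
          exacts [xp, xv, xu, xq, rfl, hc.ix a]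
        · intro i
          fin_cases i
          exacts [yp, yv, yu, yq, xy.symm, (congrArg y xy).trans (hc.iy a)]
    by_cases hC : ∃ a ∈ s, x a = a ∧ y a ≠ a ∧ x (y a) ≠ y a
    · obtain ⟨a, ha, h1, h2, h3⟩ := hC
      exact reduce_end hc ih ha h1 h2 h3
    by_cases hC' : ∃ a ∈ s, y a = a ∧ x a ≠ a ∧ y (x a) ≠ x a
    · obtain ⟨a, ha, h1, h2, h3⟩ := hC'
      exact sol_symm hc.card (reduce_end hc.symm ih ha h1 h2 h3)
    by_cases hP : ∃ a ∈ s, x a = a ∨ y a = a
    · -- a lone edge of one colour, hence also one of the other colour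
      have hsub : ∀ (u v : Perm α), FixOff s u → u.support.card = v.support.card →
          (∃ a ∈ s, u a = a ∧ v a ≠ a) → ∃ d ∈ s, v d = d ∧ u d ≠ d := by
        intro u v hu hcard ⟨a, _, hua, hva⟩
        by_contra hcon
        push_neg at hcon
        have hss : u.support ⊆ v.support := by
          intro d hd
          rw [Perm.mem_support] at hd ⊢
          intro hvd
          by_cases hds : d ∈ s
          · exact hd (hcon d hds hvd)
          · exact hd (hu d hds)
        have heq := Finset.eq_of_subset_of_card_le hss hcard.ge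
        have : a ∈ v.support := Perm.mem_support.2 hva
        rw [← heq, Perm.mem_support] at this
        exact this hua
      obtain ⟨a, ha, d, hd, xa, ya, yd, xd⟩ : ∃ a ∈ s, ∃ d ∈ s,
          x a = a ∧ y a ≠ a ∧ y d = d ∧ x d ≠ d := by
        obtain ⟨a, ha, h | h⟩ := hP
        · have hya : y a ≠ a := fun h' => hA ⟨a, ha, h, h'⟩
          obtain ⟨d, hd, h1, h2⟩ := hsub x y hc.fx hc.card ⟨a, ha, h, hya⟩
          exact ⟨a, ha, d, hd, h, hya, h1, h2⟩
        · have hxa : x a ≠ a := fun h' => hA ⟨a, ha, h', h⟩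
          obtain ⟨d, hd, h1, h2⟩ := hsub y x hc.fy hc.card.symm ⟨a, ha, h, hxa⟩
          exact ⟨d, hd, a, ha, h1, h2, h, hxa⟩
      have xb : x (y a) = y a := by
        by_contra h; exact hC ⟨a, ha, xa, ya, h⟩
      have ye : y (x d) = x d := by
        by_contra h; exact hC' ⟨d, hd, yd, xd, h⟩
      exact pair_sol hc ih ha hd xa ya xb yd xd ye
    -- no fixed points at all
    push_neg at hP
    have hmx : ∀ w ∈ s, x w ≠ w := fun w hw => (hP w hw).1
    have hmy : ∀ w ∈ s, y w ≠ w := fun w hw => (hP w hw).2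
    have hxy : ∀ w ∈ s, x w ≠ y w := fun w hw h => hB ⟨w, hw, hmx w hw, h⟩
    by_cases hnsq : ∃ a ∈ s, x (y (x (y a))) ≠ a
    · obtain ⟨a, ha, h⟩ := hnsq
      exact reduce_cycle hc ih hmx hmy hxy ha h
    push_neg at hnsq
    rcases s.eq_empty_or_nonempty with hemp | ⟨a, ha⟩
    · have h1 : ∀ u : Perm α, FixOff s u → u = 1 := fun u hu => by
        ext w; exact hu w (by simp [hemp])
      refine ⟨1, inv_one', fixOff_one, by rw [h1 x hc.fx], ?_, ?_⟩
      · rw [h1 x hc.fx, mul_one]; exact good_one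
      · rw [h1 y hc.fy, mul_one]; exact good_one
    obtain ⟨c4, hs4, hinv, xa⟩ := square hc hmx hmy hxy ha (hnsq a ha)
    set t1 : Finset α := {a, y a, x (y a), y (x (y a))} with ht1
    obtain ⟨a', ha'⟩ : (s \ t1).Nonempty := by
      rw [Finset.nonempty_iff_ne_empty]
      intro h
      have heq : t1 = s := Finset.Subset.antisymm hs4 (Finset.sdiff_eq_empty_iff_subset.1 h)
      refine hne ⟨by rw [← heq]; exact c4, ?_, ?_, fun h' => hxy a ha (by rw [h'])⟩
      · ext w
        exact ⟨fun hw => by_contra fun hws => Perm.mem_support.1 hw (hc.fx w hws),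
          fun hw => Perm.mem_support.2 (hmx w hw)⟩
      · ext w
        exact ⟨fun hw => by_contra fun hws => Perm.mem_support.1 hw (hc.fy w hws),
          fun hw => Perm.mem_support.2 (hmy w hw)⟩
    rw [Finset.mem_sdiff] at ha'
    obtain ⟨c4', hs4', hinv', xa'⟩ := square hc hmx hmy hxy ha'.1 (hnsq a' ha'.1)
    set t2 : Finset α := {a', y a', x (y a'), y (x (y a'))} with ht2
    have hout : ∀ w, w ∉ t1 → x w ∉ t1 ∧ y w ∉ t1 := fun w hw =>
      ⟨fun h => hw (by have := (hinv _ h).1; rwa [hc.ix] at this),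
        fun h => hw (by have := (hinv _ h).2; rwa [hc.iy] at this)⟩
    have hdis : Disjoint t1 t2 := by
      rw [Finset.disjoint_right]
      intro w hw
      simp only [ht2, Finset.mem_insert, Finset.mem_singleton] at hw
      have h1 := (hout a' ha'.2).2
      have h2 := (hout _ h1).1
      rcases hw with rfl | rfl | rfl | rfl
      exacts [ha'.2, h1, h2, (hout _ h2).2]
    set t := t1 ∪ t2 with ht
    have hts : t ⊆ s := Finset.union_subset hs4 hs4'
    have hinvt : ∀ w ∈ t, x w ∈ t ∧ y w ∈ t := fun w hw => by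
      rcases Finset.mem_union.1 hw with h | h
      · exact ⟨Finset.mem_union_left _ (hinv w h).1, Finset.mem_union_left _ (hinv w h).2⟩
      · exact ⟨Finset.mem_union_right _ (hinv' w h).1, Finset.mem_union_right _ (hinv' w h).2⟩
    obtain ⟨x1, ix1, fx1, hx1⟩ := restr_exists hc.ix hc.fx fun w hw => (hinvt w hw).1
    obtain ⟨y1, iy1, fy1, hy1⟩ := restr_exists hc.iy hc.fy fun w hw => (hinvt w hw).2
    have full : ∀ (u u1 : Perm α), FixOff t u1 → (∀ w ∈ t, u1 w = u w) → (∀ w ∈ s, u w ≠ w) →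
        u1.support = t := by
      intro u u1 hf hval hm
      ext w
      exact ⟨fun hw => by_contra fun hws => Perm.mem_support.1 hw (hf w hws),
        fun hw => Perm.mem_support.2 (by rw [hval w hw]; exact hm w (hts hw))⟩
    have hc1 : Cfg t x1 y1 := ⟨ix1, iy1, fx1, fy1,
      by rw [full x x1 fx1 hx1 hmx, full y y1 fy1 hy1 hmy]⟩
    have h8 : t.card = 8 := by rw [ht, Finset.card_union_of_disjoint hdis, c4, c4']
    have hmem : ∀ w, w ∈ t → ∃ i : Fin 8, ![a, y (x (y a)), x (y a), y a,
        a', y (x (y a')), x (y a'), y a'] i = w := by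
      intro w hw
      simp only [ht, ht1, ht2, Finset.mem_union, Finset.mem_insert, Finset.mem_singleton] at hw
      rcases hw with (rfl | rfl | rfl | rfl) | (rfl | rfl | rfl | rfl)
      exacts [⟨0, rfl⟩, ⟨3, rfl⟩, ⟨2, rfl⟩, ⟨1, rfl⟩, ⟨4, rfl⟩, ⟨7, rfl⟩, ⟨6, rfl⟩, ⟨5, rfl⟩]
    have m : ∀ w ∈ ({a, y a, x (y a), y (x (y a)), a', y a', x (y a'), y (x (y a'))} : Finset α),
        w ∈ t := by
      intro w hw
      simp only [ht, ht1, ht2, Finset.mem_union, Finset.mem_insert, Finset.mem_singleton] at hw ⊢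
      tauto
    refine split hc ih hts ⟨a, m a (by simp)⟩ hc1 (fun w hw => ⟨(hx1 w hw).symm, (hy1 w hw).symm⟩)
      ?_ ?_
    · refine explicit hc1 ![a, y (x (y a)), x (y a), y a, a', y (x (y a')), x (y a'), y a'] h8 hmem
        (Equiv.swap 0 1 * Equiv.swap 2 3 * Equiv.swap 4 5 * Equiv.swap 6 7)
        (Equiv.swap 0 3 * Equiv.swap 1 2 * Equiv.swap 4 7 * Equiv.swap 5 6)
        (Equiv.swap 0 1 * Equiv.swap 4 7 * Equiv.swap 2 5 * Equiv.swap 3 6) ?_ ?_
        (by decide +kernel) (by decide +kernel) 3 3 (by decide) (by decide)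
        (by decide +kernel) (by decide +kernel)
      · intro i
        fin_cases i
        exacts [(hx1 _ (m _ (by simp))).trans xa, (hx1 _ (m _ (by simp))).trans (hnsq a ha),
          (hx1 _ (m _ (by simp))).trans (hc.ix _), hx1 _ (m _ (by simp)),
          (hx1 _ (m _ (by simp))).trans xa', (hx1 _ (m _ (by simp))).trans (hnsq a' ha'.1),
          (hx1 _ (m _ (by simp))).trans (hc.ix _), hx1 _ (m _ (by simp))]
      · intro i
        fin_cases i
        exacts [hy1 _ (m _ (by simp)), (hy1 _ (m _ (by simp))).trans (hc.iy _),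
          hy1 _ (m _ (by simp)), (hy1 _ (m _ (by simp))).trans (hc.iy _),
          hy1 _ (m _ (by simp)), (hy1 _ (m _ (by simp))).trans (hc.iy _),
          hy1 _ (m _ (by simp)), (hy1 _ (m _ (by simp))).trans (hc.iy _)]
    · intro p q u v hset hcard hxv hyv
      obtain ⟨xp, xv, xq, xu⟩ := hxv
      obtain ⟨yp, yq, yu, yv⟩ := hyv
      refine explicit hc ![a, y (x (y a)), x (y a), y a, a', y (x (y a')), x (y a'), y a',
          p, v, u, q] (by omega) ?_
        (Equiv.swap 0 1 * Equiv.swap 2 3 * Equiv.swap 4 5 * Equiv.swap 6 7 * Equiv.swap 8 9 *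
          Equiv.swap 10 11)
        (Equiv.swap 0 3 * Equiv.swap 1 2 * Equiv.swap 4 7 * Equiv.swap 5 6 * Equiv.swap 8 11 *
          Equiv.swap 9 10)
        (Equiv.swap 8 0 * Equiv.swap 10 1 * Equiv.swap 9 11 * Equiv.swap 4 7 * Equiv.swap 2 5 *
          Equiv.swap 3 6) ?_ ?_
        (by decide +kernel) (by decide +kernel) 15 15 (by decide) (by decide)
        (by decide +kernel) (by decide +kernel)
      · intro w hw
        by_cases hwt : w ∈ t
        · simp only [ht, ht1, ht2, Finset.mem_union, Finset.mem_insert, Finset.mem_singleton] at hwt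
          rcases hwt with (rfl | rfl | rfl | rfl) | (rfl | rfl | rfl | rfl)
          exacts [⟨0, rfl⟩, ⟨3, rfl⟩, ⟨2, rfl⟩, ⟨1, rfl⟩, ⟨4, rfl⟩, ⟨7, rfl⟩, ⟨6, rfl⟩, ⟨5, rfl⟩]
        · have hm : w ∈ s \ t := Finset.mem_sdiff.2 ⟨hw, hwt⟩
          rw [hset] at hm
          simp only [Finset.mem_insert, Finset.mem_singleton] at hm
          rcases hm with rfl | rfl | rfl | rfl
          exacts [⟨8, rfl⟩, ⟨11, rfl⟩, ⟨10, rfl⟩, ⟨9, rfl⟩]
      · intro i
        fin_cases i
        exacts [xa, hnsq a ha, hc.ix _, rfl, xa', hnsq a' ha'.1, hc.ix _, rfl, xp, xv, xu, xq]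
      · intro i
        fin_cases i
        exacts [rfl, hc.iy _, rfl, hc.iy _, rfl, hc.iy _, rfl, hc.iy _, yp, yv, yu, yq]

end Cfsg.Agent.Lead.OddGraph
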